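import Cfsg.Agent.KZ.Ch3L2.Orb
import Cfsg.Agent.KZ.Alt.Main
import Cfsg.Agent.H587.CY.Wit
import Cfsg.Agent.S0243
import Cfsg.Agent.S0254
import Cfsg.Agent.S2602
import Cfsg.Agent.S4765

/-!
# KZ, `PSL₂(3 ^ f)`: all rows (helper29)

* `tr2` : the square of the trace; `orbs` : orbits of characters; `p4` : fixed characters;
* `exists_weil` : a character whose stabiliser is `PΣL₂(q)`;
* `at_psl2` : the four rows (unconditional).
-/

set_option autoImplicit false
set_option linter.unusedSectionVars false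

namespace Cfsg.Agent.KZ.Ch3L2

open Cfsg Cfsg.Agent.KZ.Tool Cfsg.Agent.KZ.Red Cfsg.Agent.KZ.Res Cfsg.Agent.KZ.Ch3X Cfsg.Agent.KZ.Ch3
open Cfsg.Agent.Characters.Core Subgroup
open Cfsg.Agent.ONan.SL2Hom Cfsg.Agent.ClassicalGeometry.AutPSL.Root Cfsg.Agent.ClassicalGeometry.AutPSL.Auto
open Cfsg.Agent.H199.PslAut Cfsg.Agent.H587.CY

attribute [local instance] H687.autAct

variable {M : Ideal AlgInt} {F : Type} [Field F] [Fintype F] [DecidableEq F]

/-! ### the square of the trace -/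

/-- the square of the trace -/
noncomputable def tr2 (x : PS F) : F := (pr_surjective x).choose.1.trace ^ 2

theorem tr2_pr (g : Matrix.SpecialLinearGroup (Fin 2) F) : tr2 (pr g) = g.1.trace ^ 2 := by
  obtain ⟨c, hc⟩ := exists_smul_of_pr_eq (pr_surjective (pr g)).choose_spec
  have h1 := congrArg Matrix.det hc
  rw [Matrix.det_smul, g.2, (pr_surjective (pr g)).choose.2, Fintype.card_fin, mul_one] at h1
  rw [tr2, hc, Matrix.trace_smul, smul_eq_mul, mul_pow, ← h1, one_mul]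

theorem tr2_aut (g : GL (Fin 2) F) (τ : F ≃+* F) (x : PS F) : tr2 ((Psi 2 F g * phi 2 F τ) x) = τ (tr2 x) := by
  obtain ⟨s, rfl⟩ := pr_surjective x
  rw [MulAut.mul_apply, phi_pr, Psi_pr, tr2_pr, tr2_pr, coe_cj, Matrix.trace_units_conj, Matrix.trace_fin_two,
    Matrix.trace_fin_two, coe_fld_apply, coe_fld_apply, map_pow, map_add]

theorem tr2_conj (s x : PS F) : tr2 (s * x * s⁻¹) = tr2 x := by
  obtain ⟨g, rfl⟩ := pr_surjective s
  have h := tr2_aut (g : GL (Fin 2) F) 1 x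
  rwa [map_one, mul_one, Psi_coe] at h

/-- an element with trace `t` -/
def xt (t : F) : PS F := pr (mk 0 (-1) 1 t (by ring))

theorem tr2_xt (t : F) : tr2 (xt t) = t ^ 2 := by
  rw [xt, tr2_pr, Matrix.trace_fin_two, mk_00, mk_11, zero_add]

theorem phi_xt (τ : F ≃+* F) (t : F) : phi 2 F τ (xt t) = xt (τ t) := by
  rw [xt, phi_pr]
  refine congrArg pr (ext' ?_ ?_ ?_ ?_) <;> rw [coe_fld_apply] <;> simp

theorem phi_tM (τ : F ≃+* F) (t : F) : phi 2 F τ (pr (tM t)) = pr (tM (τ t)) := by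
  rw [phi_pr]
  refine congrArg pr (ext' ?_ ?_ ?_ ?_) <;> rw [coe_fld_apply] <;> simp

theorem form (σ : MulAut (PS F)) : ∃ g τ, σ = Psi 2 F g * phi 2 F τ :=
  (exists_form (n := 2) le_rfl σ).elim id fun h => absurd h.1 (by norm_num)

theorem pow_gal {g : GL (Fin 2) F} {τ : F ≃+* F} {n : ℕ} (h : (Psi 2 F g * phi 2 F τ) ^ n ∈ Inn (PS F)) : τ ^ n = 1 := by
  have h1 : ∀ n : ℕ, ∃ g', (Psi 2 F g * phi 2 F τ) ^ n = Psi 2 F g' * phi 2 F (τ ^ n) := fun n => by
    induction n with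
    | zero => exact ⟨1, by simp⟩
    | succ n ih =>
      obtain ⟨g', e⟩ := ih
      exact ⟨g' * mapGL (τ ^ n) g, by
        rw [pow_succ, e, mul_assoc, ← mul_assoc (phi 2 F _), phi_mul_Psi, map_mul, pow_succ, map_mul, mul_assoc, mul_assoc]⟩
  obtain ⟨g', e⟩ := h1 n
  obtain ⟨s, hs⟩ := h
  obtain ⟨s, rfl⟩ := pr_surjective s
  rw [e, ← Psi_coe] at hs
  refine (Psi_phi_eq (n := 2) le_rfl (g := (s : GL (Fin 2) F)⁻¹ * g') ?_).2
  rw [map_mul, mul_assoc, ← hs, map_inv, inv_mul_cancel, map_one]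

/-- orbits on the characters of degree prime to `3` -/
theorem orbs (h1 : One3 (PS F)) {K : Subgroup (MulAut (PS F))} (hK : Inn (PS F) ≤ K) (Γ : Subgroup (F ≃+* F))
    (hΓ : ∀ g τ, Psi 2 F g * phi 2 F τ ∈ K → τ ∈ Γ) {k : ℕ} (hk : Nat.card Γ * 2 * k < Fintype.card F) :
    ∃ f : Fin k → IrrCharacter (PS F), (∀ i, ¬ 3 ∣ charDegree (f i : PS F → ℂ)) ∧
      ∀ i j, ∀ σ ∈ K, σ • f i = f j → i = j := by
  have : Finite (F ≃+* F) := Finite.of_injective _ (DFunLike.coe_injective (F := F ≃+* F))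
  refine exists_orbs h1 hK (fun x => MulAction.orbit Γ (tr2 x)) (fun σ hσ x => ?_) ?_
  · obtain ⟨g, τ, rfl⟩ := form σ
    rw [tr2_aut]
    exact MulAction.orbit_smul (⟨τ, hΓ g τ hσ⟩ : Γ) _
  · have h2 := card_le_of_fib (fun t : F => (⟨_, xt t, rfl⟩ : Set.range fun x : PS F => MulAction.orbit Γ (tr2 x))) id
      Function.injective_id (fun t (i : Γ × Bool) => if i.2 then i.1.1 t else - i.1.1 t) fun a b e => by
        have h3 : MulAction.orbit Γ (tr2 (xt a)) = MulAction.orbit Γ (tr2 (xt b)) := congrArg Subtype.val e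
        rw [tr2_xt, tr2_xt] at h3
        obtain ⟨τ, h4⟩ := MulAction.orbit_eq_iff.1 h3.symm
        have h5 : b ^ 2 = τ.1 a ^ 2 := by rw [← map_pow]; exact h4.symm
        rcases sq_eq_sq_iff_eq_or_eq_neg.1 h5 with h6 | h6
        exacts [⟨(τ, true), h6⟩, ⟨(τ, false), h6⟩]
    rw [Nat.card_prod, Nat.card_eq_fintype_card (α := F), Nat.card_eq_fintype_card (α := Bool), Fintype.card_bool] at h2
    exact lt_of_mul_lt_mul_left (hk.trans_le h2) (Nat.zero_le _)

/-- the fixed field of an automorphism of order `3` -/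
theorem card_fix {τ : F ≃+* F} (h3 : τ ^ 3 = 1) (h1 : τ ≠ 1) : Fintype.card F = Nat.card {t // τ t = t} ^ 3 := by
  have : Fact (Nat.Prime 3) := ⟨Nat.prime_three⟩
  have : Finite (F ≃+* F) := Finite.of_injective _ (DFunLike.coe_injective (F := F ≃+* F))
  have := Fintype.ofFinite (zpowers τ)
  have := Fintype.ofFinite (FixedPoints.subfield (zpowers τ) F)
  rw [Module.card_eq_pow_finrank (K := FixedPoints.subfield (zpowers τ) F) (V := F), FixedPoints.finrank_eq_card,
    ← Nat.card_eq_fintype_card, ← Nat.card_eq_fintype_card, Nat.card_zpowers, orderOf_eq_prime h3 h1]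
  congr 1
  refine Nat.card_congr (Equiv.subtypeEquivRight fun t => ⟨fun h => h ⟨τ, mem_zpowers τ⟩, fun h g => ?_⟩)
  exact (zpowers_le (H := MulAction.stabilizer (F ≃+* F) t)).2 h g.2

variable [CharP F 3]

theorem rc_ne : ringChar F ≠ 2 := by
  rw [ringChar.eq F 3]
  norm_num

theorem exists_nsq : ∃ v : Fˣ, ¬ IsSquare v ∧ eta (v : F) = -1 := by
  obtain ⟨v, hv⟩ := FiniteField.exists_nonsquare (rc_ne (F := F))
  have h0 : v ≠ 0 := by
    rintro rfl
    exact hv IsSquare.zero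
  refine ⟨Units.mk0 v h0, fun ⟨w, hw⟩ => hv ⟨w, congrArg Units.val hw⟩, ?_⟩
  unfold eta
  rw [Units.val_mk0, quadraticChar_neg_one_iff_not_isSquare.2 hv]
  norm_num

theorem mem_of_odd {σ : MulAut (PS F)} {n : ℕ} (hn : Odd n) (h : σ ^ n ∈ (pt F).range) : σ ∈ (pt F).range := by
  obtain ⟨v, hv, -⟩ := exists_nsq (F := F)
  have h2 : (pt F).range.index = 2 := index_eq_two_iff'.2 ⟨(Psi 2 F (dM v))⁻¹, fun b => by
    by_cases hb : b ∈ (pt F).range
    · exact .inr ⟨hb, fun h3 => not_mem_range hv (inv_mem_iff.1 ((mul_mem_cancel_right hb).1 h3))⟩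
    · exact .inl ⟨cover rc_ne hv b hb, hb⟩⟩
  obtain ⟨k, rfl⟩ := hn
  rwa [pow_succ, pow_mul, mul_mem_cancel_left (pow_mem (sq_mem_of_index_two h2 σ) k)] at h

theorem form3 {σ : MulAut (PS F)} {s : PS F} (h : σ ^ 3 = MulAut.conj s) (h1 : ∀ t, σ ≠ MulAut.conj t) :
    ∃ t τ, σ = MulAut.conj t * phi 2 F τ ∧ τ ^ 3 = 1 ∧ τ ≠ 1 := by
  obtain ⟨x, rfl⟩ := mem_of_odd (n := 3) (by decide) (h ▸ conj_mem s)
  refine ⟨_, _, pt_apply x, pow_gal (g := (x.left : GL (Fin 2) F)) ⟨s, ?_⟩, fun e => h1 (pr x.left) ?_⟩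
  · rw [Psi_coe, ← pt_apply, h]
  · rw [pt_apply, e, map_one, mul_one]

theorem three_dvd : 3 ∣ Fintype.card F := (CharP.cast_eq_zero_iff F 3 _).1 (FiniteField.cast_card_eq_zero F)

/-- **the Weil character** -/
theorem exists_weil : ∃ θ : IrrCharacter (PS F), ¬ 3 ∣ charDegree (θ : PS F → ℂ) ∧ Nontriv θ ∧
    ∀ σ, Fixes σ θ ↔ σ ∈ (pt F).range := by
  have : Fact (Nat.Prime 3) := ⟨Nat.prime_three⟩
  have h2 := rc_ne (F := F)
  obtain ⟨ψ, hψ, hinv, -⟩ := exists_psi (F := F) 3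
  obtain ⟨R, hR⟩ := exists_desc h2 hψ hinv
  obtain ⟨v, hv, hv1⟩ := exists_nsq (F := F)
  let θ : IrrCharacter (PS F) := ⟨fun s => R.character (io F s), irr_theta h2 hψ hinv hR⟩
  have h3 : ∀ σ ∈ (pt F).range, Fixes σ θ := fun σ hσ s => by
    have : Fintype (MulAut (PS F)) := Fintype.ofFinite _
    refine Eq.trans (congrArg R.character (Subtype.ext ?_))
      (isCharacter_isClassFunction (isCharacter_of_rep R) (io F s) ⟨σ, hσ⟩)
    refine MulEquiv.ext fun x => ?_
    show σ s * x * (σ s)⁻¹ = σ (s * σ⁻¹ x * s⁻¹)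
    rw [map_mul, map_mul, map_inv, MulAut.apply_inv_self]
  have h4 : ¬ Fixes (Psi 2 F (dM v)) θ := fun h => by
    have h5 : R.character (io F (Psi 2 F (dM v) (pr (tM 1)))) = R.character (io F (pr (tM 1))) := h _
    rw [Psi_pr, cj_dM, mul_one, theta_te h2 hψ hinv hR, theta_te h2 hψ hinv hR, if_neg v.ne_zero, if_neg one_ne_zero,
      hv1, eta_one] at h5
    exact gs_ne h2 hψ (by linear_combination (-1 : ℂ) * h5)
  refine ⟨θ, fun ⟨n, hn⟩ => ?_, fun h => h4 fun s => by rw [h], fun σ => ⟨fun h => by_contra fun h5 => h4 ?_, h3 σ⟩⟩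
  · have h5 := cast_deg (isIrr_isCharacter θ.2)
    obtain ⟨m, hm⟩ := three_dvd (F := F)
    rw [hn, show (θ : PS F → ℂ) 1 = R.character (io F 1) from rfl, map_one, theta_one h2 hψ hinv hR, hm] at h5
    push_cast at h5
    rcases eta_cases (neg_one_ne (F := F)) with he | he <;> rw [he] at h5
    · have h6 : 6 * n = 3 * m + 1 := by exact_mod_cast (by linear_combination 2 * h5 : (6 * n : ℂ) = 3 * m + 1)
      omega
    · have h6 : 6 * n + 1 = 3 * m := by exact_mod_cast (by linear_combination 2 * h5 : (6 * n + 1 : ℂ) = 3 * m)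
      omega
  · have h6 := fixes_mul h (fixes_inv (h3 _ (cover h2 hv σ h5)))
    rwa [mul_inv_rev, inv_inv, mul_inv_cancel_left] at h6

theorem invB (hm : AllM M (PS F)) (hr : Rig (PS F)) (X : Subgroup (MulAut (PS F))) (hX : IsPGroup 3 ↥X) : InvB M X := by
  obtain ⟨θ, h1, h2, h3⟩ := exists_weil (F := F)
  have : Finite (F ≃+* F) := Finite.of_injective _ (DFunLike.coe_injective (F := F ≃+* F))
  obtain ⟨τ, hτ⟩ := (LieRecognition.FieldSemilinear.isCyclic_ringAut F).exists_monoid_generator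
  refine ⟨⟨θ, hm θ h1, h2, fun σ hσ => (h3 σ).2 ?_, phi 2 F τ, fun σ hσ => ?_⟩, hr⟩
  · obtain ⟨j, hj⟩ := hX ⟨σ, hσ⟩
    refine mem_of_odd (n := 3 ^ j) (Odd.pow (by decide)) ?_
    rw [show σ ^ 3 ^ j = 1 from congrArg Subtype.val hj]
    exact one_mem _
  · obtain ⟨x, rfl⟩ := (h3 σ).1 hσ
    obtain ⟨j, hj⟩ := hτ x.right
    refine ⟨j, (phi 2 F x.right)⁻¹ (pr x.left), ?_⟩
    rw [← map_pow, show τ ^ j = x.right from hj, pt_apply]
    refine MulEquiv.ext fun y => ?_
    simp only [MulAut.mul_apply, MulAut.conj_apply, map_mul, map_inv, MulAut.apply_inv_self]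

theorem p4 (h1 : One3 (PS F)) (hm : AllM M (PS F)) {f : ℕ} (hF : Fintype.card F = 3 ^ f) (hf : 4 ≤ f) : P4 M (PS F) := by
  intro σ s hs hn
  obtain ⟨t, τ, rfl, h3, h4⟩ := form3 hs hn
  have h5 := card_fix h3 h4
  obtain ⟨j, -, hj⟩ := (Nat.dvd_prime_pow Nat.prime_three).1
    (show Nat.card {t // τ t = t} ∣ 3 ^ f by rw [← hF, h5]; exact dvd_pow_self _ (by norm_num))
  rw [hj, hF, ← pow_mul] at h5
  have h6 := Nat.pow_right_injective (by norm_num : 2 ≤ 3) h5
  have h7 := card_le_of_fib (fun a : {t // τ t = t} => (⟨ConjClasses.mk (xt a.1), congrArg ConjClasses.mk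
      ((phi_xt τ a.1).trans (congrArg xt a.2))⟩ :
      {C : ConjClasses (PS F) // ConjClasses.map (phi 2 F τ).toMonoidHom C = C})) Subtype.val Subtype.val_injective
    (fun a (i : Bool) => if i then a.1 else - a.1) fun a b e => by
      obtain ⟨c, hc⟩ := isConj_iff.1 (ConjClasses.mk_eq_mk_iff_isConj.1 (congrArg Subtype.val e))
      have h8 := tr2_conj c (xt a.1)
      rw [hc, tr2_xt, tr2_xt] at h8
      rcases sq_eq_sq_iff_eq_or_eq_neg.1 h8 with h9 | h9
      exacts [⟨true, h9⟩, ⟨false, h9⟩]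
  rw [hj, Nat.card_eq_fintype_card (α := Bool), Fintype.card_bool] at h7
  have h8 : 3 ^ 2 ≤ 3 ^ j := Nat.pow_le_pow_right (by norm_num) (by omega)
  obtain ⟨R, h9, h10⟩ := exists_four h1 hm (phi 2 F τ) (by omega)
  exact ⟨R, h9, fun θ hθ => ⟨(h10 θ hθ).1, fixes_mul (fixes_conj t θ) (h10 θ hθ).2⟩⟩

/-! ### the Sylow subgroup -/

variable (F) in
/-- the root subgroup -/
def uH : Multiplicative F →* PS F :=
  MonoidHom.mk' (fun t => pr (tM t.toAdd)) fun a b => by
    rw [← map_mul]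
    refine congrArg pr (ext' ?_ ?_ ?_ ?_) <;> rw [mul_apply'] <;> simp [add_comm]

theorem uH_inj : Function.Injective (uH F) := by
  rw [injective_iff_map_eq_one]
  intro t ht
  obtain ⟨c, hc⟩ := exists_smul_of_pr_eq (x := 1) (y := tM t.toAdd) ((map_one pr).trans ht.symm)
  simpa using congrFun (congrFun hc 0) 1

theorem cube (z : Multiplicative F) : z ^ 3 = 1 := by
  refine Multiplicative.toAdd.injective ?_
  rw [toAdd_pow, nsmul_eq_mul, CharP.cast_eq_zero, zero_mul, toAdd_one]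

theorem card_uH : Nat.card (uH F).range = Fintype.card F := by
  rw [← Nat.card_congr (MonoidHom.ofInjective uH_inj).toEquiv, Nat.card_eq_fintype_card, Fintype.card_multiplicative]

theorem card_ps : 2 * Nat.card (PS F) + Fintype.card F = Fintype.card F ^ 3 := by
  have h := S0243.result (F := F) rfl 2 le_rfl
  have h1 : Fintype.card F % 2 = 1 := FiniteField.odd_card_of_char_ne_two rc_ne
  have h2 := Fintype.one_lt_card (α := F)
  obtain ⟨r, hr⟩ : ∃ r, Fintype.card F = 2 * r + 3 := ⟨(Fintype.card F - 3) / 2, by omega⟩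
  rw [hr] at h ⊢
  rw [Fin.prod_univ_two, Nat.gcd_eq_left (show 2 ∣ 2 * r + 3 - 1 by omega), Fin.val_zero, Fin.val_one, pow_zero, pow_one,
    show 2 * r + 3 - 1 = 2 * r + 2 by omega, Nat.sub_eq_of_eq_add (show (2 * r + 3) ^ 2 = (2 * r + 2) * (2 * r + 4) + 1 by ring),
    Nat.sub_eq_of_eq_add (show (2 * r + 3) ^ 2 = (2 * r + 2) * (2 * r + 3) + (2 * r + 3) by ring)] at h
  refine Nat.eq_of_mul_eq_mul_left (show 0 < 2 * r + 2 by omega) ?_
  rw [mul_add, mul_left_comm, h]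
  ring

theorem isP_uH : IsPGroup 3 (uH F).range := by
  rintro ⟨_, t, rfl⟩
  exact ⟨1, Subtype.ext (by rw [pow_one, coe_pow, ← map_pow, cube, map_one, coe_one])⟩

theorem big : Big (Fintype.card F) (PS F) := by
  have : Fact (Nat.Prime 3) := ⟨Nat.prime_three⟩
  have h1 : ¬ 3 ∣ (uH F).range.index := fun ⟨c, hc⟩ => by
    have h2 := (uH F).range.card_mul_index
    have h3 := card_ps (F := F)
    obtain ⟨m, hm⟩ := three_dvd (F := F)
    rw [← h2, card_uH, hc] at h3
    have h4 : 6 * c + 1 = Fintype.card F ^ 2 := Nat.eq_of_mul_eq_mul_left Fintype.card_pos (by linear_combination h3)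
    rw [hm, mul_pow] at h4
    omega
  refine ⟨isP_uH.toSylow h1, Multiplicative F, inferInstance, (MonoidHom.ofInjective uH_inj).symm.toMonoidHom, cube, ?_⟩
  rw [MonoidHom.range_eq_top.2 (MonoidHom.ofInjective uH_inj).symm.surjective, card_top, Nat.card_eq_fintype_card,
    Fintype.card_multiplicative]

theorem out_dat {f : ℕ} (hF : Fintype.card F = 3 ^ f) (hf : 2 ≤ f) : OC3 (PS F) ∧ Nat.card (Out (PS F)) = 2 * f := by
  have : Fact (Nat.Prime 3) := ⟨Nat.prime_three⟩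
  obtain ⟨φ, h1, -, h2⟩ := S2602.result (p := 3) (by omega) hF
    (le_trans (by norm_num) (Nat.pow_le_pow_right (by norm_num) hf))
  rw [Nat.gcd_eq_left (Odd.tsub_odd (Odd.pow (by decide)) odd_one).two_dvd] at h2
  refine ⟨fun X hX => isCyclic_of_injective (φ.comp X.subtype) ?_, ?_⟩
  · rw [injective_iff_map_eq_one]
    intro x hx
    obtain ⟨j, hj⟩ := hX x
    have h4 := pow_card_eq_one' (x := (⟨x.1, hx⟩ : φ.ker))
    rw [h2] at h4
    have h3 : x ^ 2 = 1 := Subtype.ext (congrArg (fun z : φ.ker => (z : Out (PS F))) h4)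
    exact orderOf_eq_one_iff.1 (Nat.eq_one_of_dvd_coprimes (Nat.Coprime.pow_right j (by decide))
      (orderOf_dvd_of_pow_eq_one h3) (orderOf_dvd_of_pow_eq_one hj))
  · rw [← φ.ker.card_mul_index, h2, index_ker, MonoidHom.range_eq_top.2 h1, card_top, Nat.card_congr Multiplicative.toAdd,
      Nat.card_zmod]

/-! ### `q = 27` -/

section q27

variable (hF : Fintype.card F = 3 ^ 3) {A : Type} [Group A] [Finite A] {N : Subgroup A} [N.Normal]
  (hc : centralizer (N : Set A) = ⊥) (e : ↥N ≃* PS F)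

include hF hc e

theorem card_81 (h3 : 3 ∣ N.index) (R : Sylow 3 A) : Nat.card (R : Subgroup A) = 3 ^ 4 := by
  have h1 := index_dvd_out hc
  rw [card_out_congr e, (out_dat hF (by norm_num)).2] at h1
  have h2 := card_ps (F := F)
  have h4 := N.index_mul_card
  rw [hF] at h2
  rw [Nat.card_congr e.toEquiv, show Nat.card (PS F) = 9828 by omega] at h4
  have h5 := Nat.le_of_dvd (by norm_num) h1
  obtain ⟨c, hc⟩ := h3
  refine card_sylow R (m := c * 364) (by rw [← h4, hc]; ring) ?_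
  have h6 : c ≠ 0 := by
    rintro rfl
    exact index_ne_zero_of_finite hc
  omega

theorem up27 (hM : IsPModular 3 M) (P : Sylow 3 A) (hP : nab P = 9) : k0 M A ≤ 9 := by
  have : Fact (Nat.Prime 3) := ⟨Nat.prime_three⟩
  by_cases h3 : 3 ∣ N.index
  · let ι : Multiplicative F →* A := (N.subtype.comp e.symm.toMonoidHom).comp (uH F)
    have hι : Function.Injective ι := (N.subtype_injective.comp e.symm.injective).comp uH_inj
    obtain ⟨R, hR⟩ : ∃ R : Sylow 3 A, ι.range ≤ R := IsPGroup.exists_le_sylow (by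
      rintro ⟨_, t, rfl⟩
      exact ⟨1, Subtype.ext (by rw [pow_one, coe_pow, ← map_pow, cube, map_one, coe_one])⟩)
    have h1 : Nat.card (ι.range.subgroupOf R) = 27 := by
      rw [Nat.card_congr (subgroupOfEquivOfLe hR).toEquiv, ← Nat.card_congr (MonoidHom.ofInjective hι).toEquiv,
        Nat.card_eq_fintype_card, Fintype.card_multiplicative, hF]
      norm_num
    have h2 := (ι.range.subgroupOf R).card_mul_index
    rw [h1, card_81 hF hc e h3 R] at h2
    refine upx_81 hM R (ι.range.subgroupOf R) (by omega) ?_ ?_ h1.ge ((nab_eq R P).trans hP).le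
    · rintro ⟨_, _⟩ ⟨a, rfl⟩ ⟨_, _⟩ ⟨b, rfl⟩
      exact Subtype.ext ((map_mul ι a b).symm.trans ((congrArg ι (mul_comm a b)).trans (map_mul ι b a)))
    · rintro ⟨_, _⟩ ⟨a, rfl⟩
      exact Subtype.ext ((map_pow ι a 3).symm.trans (by rw [cube, map_one, coe_one]))
  · have h1 := nab_ge' h3 (big_congr e big) P
    rw [hF, hP] at h1
    omega

theorem nab27 (h3 : N.index = 3) (P : Sylow 3 A) : nab P ≤ 9 := by
  have : Fact (Nat.Prime 3) := ⟨Nat.prime_three⟩
  obtain ⟨g0, hg0⟩ := exists_not_mem (V := N) (by omega)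
  have h0 : g0 ^ 3 ∈ N := h3 ▸ N.pow_index_mem g0
  obtain ⟨s, τ, h1, h2, h4⟩ := form3 (σ := au e g0) (s := e ⟨_, h0⟩) (by rw [← map_pow, ← au_coe])
    fun t ht => hg0 (comap_inn e hc ▸ ⟨t, ht.symm⟩)
  obtain ⟨g, hg⟩ : ∃ g, au e g = phi 2 F τ :=
    ⟨(e.symm s : A)⁻¹ * g0, by rw [map_mul, map_inv, au_coe, h1, MulEquiv.apply_symm_apply, inv_mul_cancel_left]⟩
  let ι : Multiplicative F →* A := (N.subtype.comp e.symm.toMonoidHom).comp (uH F)
  have hι : Function.Injective ι := (N.subtype_injective.comp e.symm.injective).comp uH_inj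
  have h5 : ∀ t : F, g * ι (.ofAdd t) * g⁻¹ = ι (.ofAdd (τ t)) := fun t => by
    have h6 := au_apply e g (e.symm (pr (tM t)))
    rw [hg, MulEquiv.apply_symm_apply, phi_tM, ← MulEquiv.symm_apply_eq] at h6
    exact (congrArg Subtype.val h6).symm
  have h6 : IsPGroup 3 ↥(zpowers g ⊔ ι.range) := by
    refine IsPGroup.to_sup_of_normal_right' (IsPGroup.of_card (n := 1) ?_) ?_ (zpowers_le.2 (mem_normalizer_fintype ?_))
    · rw [Nat.card_zpowers, ← orderOf_injective _ (au_inj e hc), hg, orderOf_injective _ (phi_injective le_rfl),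
        orderOf_eq_prime h2 h4]
      rfl
    · rintro ⟨_, t, rfl⟩
      exact ⟨1, Subtype.ext (by rw [pow_one, coe_pow, ← map_pow, cube, map_one, coe_one])⟩
    · rintro _ ⟨t, rfl⟩
      exact ⟨_, (h5 t.toAdd).symm⟩
  obtain ⟨R, hR⟩ := h6.exists_le_sylow
  let δ : F →+ F := (τ : F →+ F) - AddMonoidHom.id F
  have h7 : Nat.card δ.range ≤ Nat.card (_root_.commutator ↥(R : Subgroup A)) := by
    rw [← card_map_of_injective (R : Subgroup A).subtype_injective, map_subtype_commutator]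
    refine Nat.card_le_card_of_injective (fun x => ⟨ι (.ofAdd x.1), ?_⟩) fun a b h =>
      Subtype.ext (Multiplicative.ofAdd.injective (hι (Subtype.mk.inj h)))
    obtain ⟨_, t, rfl⟩ := x
    have h8 := commutator_mem_commutator (hR (mem_sup_left (mem_zpowers g))) (hR (mem_sup_right ⟨.ofAdd t, rfl⟩))
    rwa [commutatorElement_def, h5, ← map_inv, ← map_mul, ← ofAdd_neg, ← ofAdd_add, ← sub_eq_add_neg] at h8
  have h8 := card_fix h2 h4
  rw [hF, ← Nat.card_congr (Equiv.subtypeEquivRight (p := fun t => t ∈ δ.ker) (q := fun t => τ t = t)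
    fun t => sub_eq_zero)] at h8
  have h9 := δ.ker.card_mul_index
  rw [AddSubgroup.index_ker, Nat.card_eq_fintype_card (α := F), hF,
    ← Nat.pow_left_injective (by norm_num : 3 ≠ 0) h8] at h9
  have h10 := (_root_.commutator ↥(R : Subgroup A)).index_mul_card
  rw [card_81 hF hc e h3.symm.dvd R] at h10
  rw [nab_eq P R]
  have h11 := (Nat.mul_le_mul_left (nab R) (show 9 ≤ _ from le_trans (by omega) h7)).trans h10.le
  omega

end q27

theorem num {f : ℕ} (hf : 4 ≤ f) : f * 2 * 10 < 3 ^ f := by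
  induction f, hf using Nat.le_induction with
  | base => norm_num
  | succ n _ ih =>
    rw [pow_succ]
    omega

omit [DecidableEq F] in
/-- **the rows for `PSL₂(3 ^ f)`** -/
theorem at_psl2 (hM : IsPModular 3 M) (h4 : 4 ≤ Fintype.card F) :
    At M (Matrix.ProjectiveSpecialLinearGroup (Fin 2) F) := by
  classical
  have : Fact (Nat.Prime 3) := ⟨Nat.prime_three⟩
  obtain ⟨⟨f, hf⟩, -, (hF : Fintype.card F = 3 ^ f)⟩ := FiniteField.card F 3
  have hs : IsSimpleGroup (PS F) := H183.OutPSL.simple_psl le_rfl fun _ => h4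
  have hab : ¬ IsMulCommutative (PS F) := fun h => by
    have h1 := H183.OutPSL.center_psl (F := F) le_rfl fun _ => h4
    obtain ⟨x, hx⟩ := exists_ne (1 : PS F)
    exact hx (mem_bot.1 (h1 ▸ mem_center_iff.2 fun y => h.1.1 y x))
  have hL : IsLieTypeChar 3 (PS F) :=
    .inl ⟨F, inferInstance, inferInstance, inferInstance, 2, le_rfl, fun _ => h4, ⟨MulEquiv.refl _⟩⟩
  have hm : AllM M (PS F) := allM_of_lie hM hs hab hL
  have h1 : One3 (PS F) := (S4765.result 3 F h4).1.le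
  have hG : Nat.card (⊤ : Subgroup (F ≃+* F)) = f := by rw [card_top, Lib.FieldAutCard.card_ringAut hf hF]
  have h2 : 2 ≤ f := by
    by_contra h
    rw [hF, show f = 1 by omega] at h4
    omega
  rcases h2.eq_or_lt with h3 | h3
  · obtain ⟨e⟩ := S0254.result (F := F) (by rw [hF, ← h3]; norm_num)
    refine at_of_row (Alt.row toolOne) hM hs hab ?_ fun T _ ⟨e'⟩ => ⟨6, by norm_num, ⟨e'.trans e⟩⟩
    exact three_dvd.trans (card_uH (F := F) ▸ card_subgroup_dvd_card _)
  have two : Two M (PS F) := by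
    obtain ⟨θ, h5, h6⟩ := orbs h1 (K := ⊤) le_top ⊤ (fun _ _ _ => mem_top _) (k := 3) (by
      rw [hG, hF]
      rcases (Nat.succ_le_of_lt h3).eq_or_lt with h5 | h5
      · rw [← h5]
        norm_num
      · have := num (Nat.succ_le_of_lt h5)
        omega)
    exact two_of_orbs hm h5 h6
  have inv : Inv M (PS F) := fun X hX => .inr (invB hm (rig_of_lie hs hL) X hX)
  rcases (Nat.succ_le_of_lt h3).eq_or_lt with h5 | h5
  · rw [← h5] at hF hG
    refine ⟨fun A _ _ N hA ⟨e⟩ P hP => have := hA.normal; up27 hF hA.cent e hM P hP, fun A _ _ N hA ⟨e⟩ hi P hP => ?_,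
      two, inv⟩
    have := hA.normal
    rcases hi with hi | hi
    · have h0 : ∀ g τ, Psi 2 F g * phi 2 F τ ∈ (au e).range → τ ∈ (⊥ : Subgroup (F ≃+* F)) := by
        rintro g τ ⟨a, ha⟩
        have h6 : τ ^ N.index = 1 := pow_gal (g := g) (by
          rw [← ha, ← map_pow]
          exact ⟨_, (au_coe e ⟨_, N.pow_index_mem a⟩).symm⟩)
        have h7 : τ ^ 3 = 1 := by
          have h8 := pow_card_eq_one' (x := τ)
          rwa [← card_top, hG] at h8
        exact mem_bot.2 (orderOf_eq_one_iff.1 (Nat.eq_one_of_dvd_coprimes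
          ((Nat.Prime.coprime_iff_not_dvd Nat.prime_three).2 hi) (orderOf_dvd_of_pow_eq_one h7)
          (orderOf_dvd_of_pow_eq_one h6)))
      obtain ⟨θ, h6, h7⟩ := orbs h1 (inn_le_range e) ⊥ h0 (k := 10) (by rw [card_bot, hF]; norm_num)
      exact le_k0_of_orbs hM hm e hi le_rfl h6 h7
    · have := nab27 hF hA.cent e hi P
      omega
  · have h6 := num (Nat.succ_le_of_lt h5)
    refine ⟨upAt_of_big (out_dat hF h2).1 (.inl (big.mono ?_)), loAt_of hM (fun A _ _ N _ e _ hi => ?_)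
      (p4 h1 hm hF (Nat.succ_le_of_lt h5)), two, inv⟩
    · rw [hF]
      omega
    · obtain ⟨θ, h7, h8⟩ := orbs h1 (K := ⊤) le_top ⊤ (fun _ _ _ => mem_top _) (k := 10) (by rwa [hG, hF])
      exact le_k0_of_orbs hM hm e hi le_top h7 h8

end Cfsg.Agent.KZ.Ch3L2
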