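import Cfsg.Agent.KZ.Ch3.Defs
import Cfsg.Agent.S0173

/-!
# KZ, `PSL₂(3 ^ f)`: counting orbits and fixed points on the characters by the classes (helper29)

`One3 S` : at most one irreducible character has degree divisible by `3`.
* `exists_orbs` : an invariant function with more than `k` values gives `k` orbits of characters of degree prime to `3`;
* `exists_four` : five fixed classes give four fixed characters of degree prime to `3`.
-/

set_option autoImplicit false
set_option linter.unusedSectionVars false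

namespace Cfsg.Agent.KZ.Ch3L2

open Cfsg Cfsg.Agent.KZ.Tool Cfsg.Agent.KZ.Red Cfsg.Agent.KZ.Res Cfsg.Agent.KZ.Ch3X Cfsg.Agent.KZ.Ch3
open Cfsg.Agent.Characters.Core Subgroup

theorem card_le_of_fib {α β ι Z : Type} [Finite β] [Finite ι] (f : α → β) (v : α → Z) (hv : Function.Injective v)
    (g : α → ι → Z) (h : ∀ a b, f a = f b → ∃ i, v b = g a i) : Nat.card α ≤ Nat.card ι * Nat.card β := by
  have h1 : ∀ a, ∃ a', f a' = f a := fun a => ⟨a, rfl⟩
  choose j hj using fun a => h _ a (h1 a).choose_spec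
  rw [← Nat.card_prod]
  refine Nat.card_le_card_of_injective (fun a => (j a, f a)) fun a b e => hv ?_
  obtain ⟨e1, e2⟩ := Prod.mk.inj e
  rw [hj a, hj b, e1]
  congr 2
  rw [e2]

theorem card_le_succ {α : Type} [Finite α] (P Q : α → Prop) (h : Nat.card {a // Q a} ≤ 1) :
    Nat.card {a // P a} ≤ Nat.card {a // P a ∧ ¬ Q a} + 1 := by
  have h1 : ({a | P a} : Set α) ⊆ {a | P a ∧ ¬ Q a} ∪ {a | Q a} := fun a ha =>
    (em (Q a)).elim .inr fun h2 => .inl ⟨ha, h2⟩
  exact ((Set.ncard_le_ncard h1).trans (Set.ncard_union_le _ _)).trans (Nat.add_le_add_left h _)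

theorem card_sylow {A : Type} [Group A] [Finite A] (R : Sylow 3 A) {a m : ℕ} (h : Nat.card A = 3 ^ a * m)
    (hm : ¬ 3 ∣ m) : Nat.card (R : Subgroup A) = 3 ^ a := by
  have : Fact (Nat.Prime 3) := ⟨Nat.prime_three⟩
  rw [R.card_eq_multiplicity, h, Nat.factorization_mul (by positivity) (by rintro rfl; simp at hm),
    Nat.prime_three.factorization_pow, Finsupp.add_apply, Finsupp.single_eq_same,
    Nat.factorization_eq_zero_of_not_dvd hm, add_zero]

variable {M : Ideal AlgInt} {S : Type} [Group S] [Finite S]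

attribute [local instance] H687.autAct

/-- at most one irreducible character has degree divisible by `3` -/
def One3 (S : Type) [Group S] : Prop := Nat.card {χ : IrrCharacter S // 3 ∣ charDegree (χ : S → ℂ)} ≤ 1

theorem exists_orbs (h1 : One3 S) {K : Subgroup (MulAut S)} (hK : Inn S ≤ K) {Y : Type} (d : S → Y)
    (hd : ∀ σ ∈ K, ∀ x, d (σ x) = d x) {k : ℕ} (hk : k < Nat.card (Set.range d)) :
    ∃ f : Fin k → IrrCharacter S, (∀ i, ¬ 3 ∣ charDegree (f i : S → ℂ)) ∧ ∀ i j, ∀ σ ∈ K, σ • f i = f j → i = j := by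
  classical
  have := Fintype.ofFinite S
  have : Finite (IrrCharacter S) := finite_irr
  let O := MulAction.orbitRel.Quotient K (IrrCharacter S)
  have := Fintype.ofFinite O
  have := Fintype.ofFinite (Set.range d)
  let L : (Set.range d → ℂ) →ₗ[ℂ] (O → ℂ) :=
    { toFun := fun u o => classInner (fun x => u ⟨d x, x, rfl⟩) ((Quotient.out o : IrrCharacter S) : S → ℂ)
      map_add' := fun u v => funext fun o => classInner_add_left _ _ _
      map_smul' := fun c u => funext fun o => classInner_smul_left c (fun x => u ⟨d x, x, rfl⟩) _ }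
  have hL : Function.Injective L := by
    rw [injective_iff_map_eq_zero]
    intro u hu
    have h2 : ∀ σ ∈ K, ∀ x, u ⟨d (σ x), σ x, rfl⟩ = u ⟨d x, x, rfl⟩ := fun σ hσ x =>
      congrArg u (Subtype.ext (hd σ hσ x))
    have h3 := classFunction_eq_zero (f := fun x => u ⟨d x, x, rfl⟩) (fun g h => h2 _ (hK ⟨h, rfl⟩) g) fun χ hχ => by
      obtain ⟨σ, hσ⟩ : (Quotient.out (Quotient.mk'' (⟨χ, hχ⟩ : IrrCharacter S) : O) : IrrCharacter S) ∈
          MulAction.orbit K (⟨χ, hχ⟩ : IrrCharacter S) := MulAction.orbitRel_apply.1 (Quotient.mk_out' _)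
      have h4 := congrFun hu (Quotient.mk'' ⟨χ, hχ⟩)
      have h5 := ip_comp (σ : MulAut S) (fun x => u ⟨d x, x, rfl⟩) ((σ : MulAut S) • (⟨χ, hχ⟩ : IrrCharacter S) :
        IrrCharacter S)
      simp only [h2 σ σ.2, H687.autAct_apply, MulAut.inv_apply_self] at h5
      refine h5.trans (Eq.trans ?_ h4)
      exact congrArg (fun z : IrrCharacter S => classInner (fun x => u ⟨d x, x, rfl⟩) (z : S → ℂ)) hσ
    funext ⟨_, x, e⟩
    subst e
    exact congrFun h3 x
  have h2 := LinearMap.finrank_le_finrank_of_injective hL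
  rw [Module.finrank_fintype_fun_eq_card, Module.finrank_fintype_fun_eq_card, ← Nat.card_eq_fintype_card,
    ← Nat.card_eq_fintype_card] at h2
  have h3 := card_le_succ (fun _ : O => True) (fun o => 3 ∣ charDegree ((Quotient.out o : IrrCharacter S) : S → ℂ))
    ((Nat.card_le_card_of_injective (fun o => ⟨Quotient.out o.1, o.2⟩) fun a b e =>
      Subtype.ext (Quotient.out_injective (congrArg Subtype.val e))).trans h1)
  rw [Nat.card_congr (Equiv.subtypeUnivEquiv fun _ => trivial)] at h3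
  obtain ⟨f⟩ : Nonempty (Fin k ↪ {o : O // True ∧ ¬ 3 ∣ charDegree ((Quotient.out o : IrrCharacter S) : S → ℂ)}) :=
    Function.Embedding.nonempty_of_card_le (by rw [Fintype.card_fin, ← Nat.card_eq_fintype_card]; omega)
  refine ⟨fun i => Quotient.out (f i).1, fun i => (f i).2.2, fun i j σ hσ e => f.injective (Subtype.ext ?_)⟩
  rw [← Quotient.out_eq' (f i).1, ← Quotient.out_eq' (f j).1]
  exact (Quotient.sound' (MulAction.orbitRel_apply.2 ⟨⟨σ, hσ⟩, e⟩)).symm

theorem exists_four (h1 : One3 S) (hm : AllM M S) (α : MulAut S)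
    (h : 5 ≤ Nat.card {C : ConjClasses S // ConjClasses.map α.toMonoidHom C = C}) :
    ∃ R : Finset (IrrCharacter S), 4 ≤ R.card ∧ ∀ θ ∈ R, Mem M θ ∧ Fixes α θ := by
  classical
  have : Finite (IrrCharacter S) := finite_irr
  have := Fintype.ofFinite (IrrCharacter S)
  have h2 := card_le_succ (fun χ : IrrCharacter S => (χ : S → ℂ) ∘ α = (χ : S → ℂ)) _ h1
  rw [← S0173.result α, Nat.card_eq_fintype_card (α := {a : IrrCharacter S // _ ∧ _}), Fintype.card_subtype] at h2
  refine ⟨_, Nat.le_of_succ_le_succ (h.trans h2), fun θ hθ => ?_⟩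
  have h3 := (Finset.mem_filter.1 hθ).2
  exact ⟨hm θ h3.2, congrFun h3.1⟩

/-- three orbits give `Two` -/
theorem two_of_orbs (hm : AllM M S) {f : Fin 3 → IrrCharacter S} (h1 : ∀ i, ¬ 3 ∣ charDegree (f i : S → ℂ))
    (h2 : ∀ i j, ∀ σ ∈ (⊤ : Subgroup (MulAut S)), σ • f i = f j → i = j) : Two M S := by
  have ha : ∀ i j, i ≠ j → Apart (f i) (f j) := fun i j h σ e => h (h2 i j σ⁻¹ (mem_top _) (Subtype.ext (funext e)))
  have hne : ∀ i j, i ≠ j → f i = triv S → Nontriv (f j) := fun i j h e => nontriv_iff.2 fun e' =>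
    apart3_ne (apart3_of_apart (ha i j h)) (e.trans e'.symm)
  by_cases h0 : f 0 = triv S
  · exact ⟨f 1, f 2, hm _ (h1 _), hm _ (h1 _), hne 0 1 (by decide) h0, hne 0 2 (by decide) h0, ha _ _ (by decide)⟩
  by_cases h3 : f 1 = triv S
  · exact ⟨f 0, f 2, hm _ (h1 _), hm _ (h1 _), nontriv_iff.2 h0, hne 1 2 (by decide) h3, ha _ _ (by decide)⟩
  · exact ⟨f 0, f 1, hm _ (h1 _), hm _ (h1 _), nontriv_iff.2 h0, nontriv_iff.2 h3, ha _ _ (by decide)⟩

end Cfsg.Agent.KZ.Ch3L2
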